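import Groth.Agent.PCHom.DiagRegular
import Groth.Agent.RegImmStalk.Basic
import Groth.Agent.DimTheory.Fibre
import Groth.Agent.EquidimChart.UnivOpen
import Groth.Prelude.Def_RegImm

/-!
The codimension of the diagonal of a smooth variety.
-/

set_option autoImplicit false
set_option linter.style.haveILetI false
set_option backward.isDefEq.respectTransparency.types false

universe u

open AlgebraicGeometry CategoryTheory CategoryTheory.Limits IsLocalRing

namespace Groth.Agent.DiagCodim

theorem dim_stalk_add_length {Z X : Scheme.{u}} [IsLocallyNoetherian X] (i : Z ⟶ X) [IsClosedImmersion i]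
    {U : X.Opens} (hU : IsAffineOpen U) {rs : List Γ(X, U)}
    (hrs : RingTheory.Sequence.IsRegular Γ(X, U) rs) (hker : RingHom.ker (i.app U).hom = Ideal.ofList rs)
    (z : Z) (hz : i z ∈ U) :
    ringKrullDim (Z.presheaf.stalk z) + rs.length = ringKrullDim (X.presheaf.stalk (i z)) := by
  have hp : IsAffineOpen (i ⁻¹ᵁ U) := hU.preimage i
  letI := TopCat.Presheaf.algebra_section_stalk X.presheaf (U := U) ⟨i z, hz⟩
  have := hU.isLocalization_stalk ⟨i z, hz⟩
  have : Module.Flat Γ(X, U) (X.presheaf.stalk (i z)) :=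
    IsLocalization.flat _ (hU.primeIdealOf ⟨i z, hz⟩).asIdeal.primeCompl
  haveI : IsClosedImmersion (i ∣_ U) := IsZariskiLocalAtTarget.restrict ‹_› U
  have hk := RegImmStalk.ker_stalkMap_eq_map i ⟨U, hU⟩ hp (LCIMor.app_surjective_of_restrict i hU).1 z hz
  rw [hker] at hk
  have hk2 : RingHom.ker (i.stalkMap z).hom = Ideal.ofList (rs.map (algebraMap Γ(X, U) (X.presheaf.stalk (i z)))) := by
    rw [hk, ← Ideal.map_ofList]; rfl
  have hreg : RingTheory.Sequence.IsRegular (X.presheaf.stalk (i z))
      (rs.map (algebraMap Γ(X, U) (X.presheaf.stalk (i z)))) := by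
    refine ⟨RingTheory.Sequence.IsWeaklyRegular.of_flat hrs.toIsWeaklyRegular, ?_⟩
    rw [smul_eq_mul, Ideal.mul_top, ← hk2]
    exact fun h => RingHom.ker_ne_top (i.stalkMap z).hom h.symm
  have h := ringKrullDim_add_length_eq_ringKrullDim_of_isRegular _ hreg
  rw [List.length_map] at h
  rw [← h]
  congr 1
  exact (ringKrullDim_eq_of_ringEquiv ((Ideal.quotEquivOfEq hk2.symm).trans
    (RingHom.quotientKerEquivOfSurjective (i.stalkMap_surjective z)))).symm

theorem dim_stalk_prod (K : Type u) [Field K] {X : Scheme.{u}} (f : X ⟶ Spec (CommRingCat.of K))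
    [LocallyOfFiniteType f] [Flat f] [IsIntegral X] {n : ℕ} (hn : topologicalKrullDim X = n)
    {p : ↥(pullback f f)} (hp : IsClosed ({p} : Set ↥(pullback f f))) :
    ringKrullDim ((pullback f f).presheaf.stalk p) = ((n + n : ℕ) : WithBot ℕ∞) := by
  let a := pullback.fst f f
  let b := pullback.snd f f
  haveI : LocallyOfFiniteType a := MorphismProperty.pullback_fst _ _ ‹_›
  haveI : LocallyOfFiniteType b := MorphismProperty.pullback_snd _ _ ‹_›
  haveI : Flat a := MorphismProperty.pullback_fst _ _ ‹_›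
  haveI : Flat b := MorphismProperty.pullback_snd _ _ ‹_›
  obtain ⟨m, hpm, hmax, hh⟩ := DimTheory.exists_height_eq_add_coheight (a ≫ f) p
  have h0 : Order.height p = 0 := Order.height_eq_zero.2 fun q hq => by
    have h1 : q ∈ ({p} : Set ↥(pullback f f)) := (show p ⤳ q from hq).mem_closed hp rfl
    rw [Set.mem_singleton_iff.1 h1]
  have hgen : ∀ q, q ⤳ m → q = m := fun q hq => (hq.antisymm (hmax q hq)).eq
  have hξ : ∀ (g : pullback f f ⟶ X) [Flat g], g m = genericPoint X := fun g _ => by
    obtain ⟨q, hq, hqξ⟩ := Flat.generalizingMap g (genericPoint_specializes (g m))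
    rw [← hgen q hq]; exact hqξ
  obtain ⟨k, hk, hk', -⟩ := EquidimChart.mapTrdeg_baseChange_of_fibreMax f
    (IsPullback.of_hasPullback f f).flip (x' := m) (fun q hq _ => hgen q hq)
  rw [hξ b] at hk'
  obtain ⟨n', hn1, hn2⟩ := DimTheory.exists_dim_eq_resTrdeg f
  obtain rfl : n' = n := by rw [hn] at hn2; exact_mod_cast hn2.symm
  have e0 := DimTheory.resTrdeg_comp (k := K) (𝟙 (Spec (CommRingCat.of K))) f (genericPoint X)
  rw [show DimTheory.resTrdeg (k := K) (𝟙 (Spec (CommRingCat.of K))) (f (genericPoint X)) = 0 from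
    DimTheory.resTrdeg_id _ _, zero_add, Category.comp_id, hk', hn1] at e0
  have hkn : n' = k := Nat.cast_injective (R := Cardinal.{u}) e0
  obtain ⟨d, hd, hd'⟩ := DimTheory.exists_height_eq (a ≫ f) m
  rw [DimTheory.resTrdeg_comp, hξ a, hn1, hk, ← hkn, ← Nat.cast_add] at hd
  rw [ringKrullDim_stalk_eq_coheight]
  rw [h0, zero_add, hd', ← Nat.cast_injective (R := Cardinal.{u}) hd] at hh
  rw [← hh]
  rfl

end Groth.Agent.DiagCodim
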