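import Groth.Agent.DiagCodim.Basic
import Groth.Agent.DimTheory.LocClosed
import Groth.Agent.DimTheory.IrrFibres
import Groth.Agent.AffineComp.Images

/-!
Dimension bounds for intersections with a subscheme cut out by `n` equations.
-/

set_option autoImplicit false
set_option linter.style.haveILetI false
set_option backward.isDefEq.respectTransparency.types false

universe u

open AlgebraicGeometry CategoryTheory CategoryTheory.Limits IsLocalRing TopologicalSpace

namespace Groth.Agent.DiagCodim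

theorem coheight_le_length {P Y : Scheme.{u}} [IsLocallyNoetherian P] (j : P ⟶ Y) {U : Y.Opens}
    (rs : List Γ(Y, U)) (p : P) (hp : j p ∈ U)
    (hp0 : ∀ r ∈ rs, j p ∉ Y.basicOpen r)
    (h : ∀ q, q ⤳ p → (∀ r ∈ rs, j q ∉ Y.basicOpen r) → q = p) :
    Order.coheight p ≤ (rs.length : ℕ∞) := by
  classical
  obtain ⟨W, hW, hpW, hle⟩ := TopologicalSpace.Opens.isBasis_iff_nbhd.1 P.isBasis_affineOpens
    (show p ∈ j ⁻¹ᵁ U from hp)
  haveI : IsNoetherianRing Γ(P, W) := IsLocallyNoetherian.component_noetherian ⟨W, hW⟩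
  let φ := (j.appLE U W hle).hom
  have hbasic : ∀ (Q : PrimeSpectrum Γ(P, W)) (r : Γ(Y, U)),
      j (hW.fromSpec Q) ∈ Y.basicOpen r ↔ φ r ∉ Q.asIdeal := by
    intro Q r
    have hQ : hW.fromSpec Q ∈ W := hW.range_fromSpec.le ⟨Q, rfl⟩
    have e := Scheme.basicOpen_appLE j W U hle r
    have h1 : hW.fromSpec Q ∈ P.basicOpen (φ r) ↔ j (hW.fromSpec Q) ∈ Y.basicOpen r := by
      rw [show P.basicOpen (φ r) = _ from e]
      exact ⟨fun h => h.2, fun h => ⟨hQ, h⟩⟩
    rw [← h1]
    show Q ∈ hW.fromSpec ⁻¹ᵁ P.basicOpen (φ r) ↔ _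
    rw [hW.fromSpec_preimage_basicOpen]
    rfl
  let P₀ := hW.primeIdealOf ⟨p, hpW⟩
  have hP₀ : hW.fromSpec P₀ = p := hW.fromSpec_primeIdealOf ⟨p, hpW⟩
  let s : Finset Γ(P, W) := (rs.map φ).toFinset
  have hmin : P₀.asIdeal ∈ (Ideal.span (s : Set Γ(P, W))).minimalPrimes := by
    refine ⟨⟨inferInstance, Ideal.span_le.2 fun a ha => ?_⟩, fun Q ⟨hQ, hQle⟩ hQP => ?_⟩
    · obtain ⟨r, hr, rfl⟩ := List.mem_map.1 (List.mem_toFinset.1 ha)
      by_contra hc
      exact hp0 r hr (hP₀ ▸ (hbasic P₀ r).2 hc)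
    · let Q' : PrimeSpectrum Γ(P, W) := ⟨Q, hQ⟩
      have hsp : hW.fromSpec Q' ⤳ p :=
        hP₀ ▸ ((PrimeSpectrum.le_iff_specializes Q' P₀).1 hQP).map hW.fromSpec.continuous
      have := h _ hsp fun r hr hc => (hbasic Q' r).1 hc
        (hQle (Ideal.subset_span (List.mem_toFinset.2 (List.mem_map.2 ⟨r, hr, rfl⟩))))
      have h2 : Q' = P₀ := hW.fromSpec.isOpenEmbedding.injective (this.trans hP₀.symm)
      rw [← h2]
  have h1 := Ideal.height_le_card_of_mem_minimalPrimes_span_finset hmin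
  letI := TopCat.Presheaf.algebra_section_stalk P.presheaf (U := W) ⟨p, hpW⟩
  have := hW.isLocalization_stalk ⟨p, hpW⟩
  have h2 := IsLocalization.AtPrime.ringKrullDim_eq_height P₀.asIdeal (P.presheaf.stalk p)
  rw [ringKrullDim_stalk_eq_coheight] at h2
  rw [WithBot.coe_injective h2]
  refine h1.trans (Nat.cast_le.2 ?_)
  exact (List.toFinset_card_le _).trans (List.length_map _).le

theorem mem_range_of_vanish {Z X : Scheme.{u}} (i : Z ⟶ X) {U : X.Opens} (hU : IsAffineOpen U)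
    [IsClosedImmersion (i ∣_ U)] {rs : List Γ(X, U)} (hker : RingHom.ker (i.app U).hom = Ideal.ofList rs)
    {y : X} (hy : y ∈ U) (hr : ∀ r ∈ rs, y ∉ X.basicOpen r) : y ∈ Set.range i := by
  obtain ⟨hsurj, hp⟩ := LCIMor.app_surjective_of_restrict i hU
  let Y₀ := hU.primeIdealOf ⟨y, hy⟩
  have hY₀ : hU.fromSpec Y₀ = y := hU.fromSpec_primeIdealOf ⟨y, hy⟩
  have hle : RingHom.ker (i.app U).hom ≤ Y₀.asIdeal := by
    rw [hker, Ideal.ofList, Ideal.span_le]
    intro r hr'
    by_contra hc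
    refine hr r hr' ?_
    rw [← hY₀]
    show Y₀ ∈ hU.fromSpec ⁻¹ᵁ X.basicOpen r
    rw [hU.fromSpec_preimage_basicOpen]
    exact hc
  obtain ⟨Q, hQ⟩ : Y₀ ∈ Set.range (PrimeSpectrum.comap (i.app U).hom) := by
    rw [range_comap_of_surjective _ _ hsurj]
    exact hle
  refine ⟨hp.fromSpec Q, ?_⟩
  have e := congr($(IsAffineOpen.SpecMap_appLE_fromSpec i hU hp le_rfl) Q)
  rw [Scheme.Hom.comp_apply, Scheme.Hom.comp_apply, Scheme.Hom.appLE_eq_app] at e
  rw [← e, ← hY₀, ← hQ]
  rfl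

theorem flat_to_field {W : Scheme.{u}} {K : Type u} [Field K] (f : W ⟶ Spec (CommRingCat.of K)) : Flat f := by
  refine IsZariskiLocalAtSource.of_openCover (P := @Flat) W.affineCover fun i => ?_
  obtain ⟨φ, hφ⟩ := Spec.map_surjective (W.affineCover.f i ≫ f)
  refine Eq.subst (motive := fun g => Flat g) hφ ?_
  refine Flat.SpecMap_iff.2 ?_
  letI := φ.hom.toAlgebra
  exact RingHom.flat_algebraMap_iff.2 inferInstance

/-- The components of a product of integral schemes of finite type over a field have full dimension. -/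
theorem height_add_coheight_prod (K : Type u) [Field K] {V W : Scheme.{u}} (fV : V ⟶ Spec (CommRingCat.of K))
    (fW : W ⟶ Spec (CommRingCat.of K)) [LocallyOfFiniteType fV] [LocallyOfFiniteType fW]
    [IsIntegral V] [IsIntegral W] {r s : ℕ} (hr : topologicalKrullDim V = r) (hs : topologicalKrullDim W = s)
    (p : ↥(pullback fV fW)) :
    Order.height p + Order.coheight p = ((r + s : ℕ) : ℕ∞) := by
  let a := pullback.fst fV fW
  let b := pullback.snd fV fW
  haveI := flat_to_field fV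
  haveI := flat_to_field fW
  haveI : LocallyOfFiniteType a := MorphismProperty.pullback_fst _ _ ‹_›
  haveI : LocallyOfFiniteType b := MorphismProperty.pullback_snd _ _ ‹_›
  haveI : Flat a := MorphismProperty.pullback_fst _ _ ‹_›
  haveI : Flat b := MorphismProperty.pullback_snd _ _ ‹_›
  obtain ⟨m, hpm, hmax, hh⟩ := DimTheory.exists_height_eq_add_coheight (a ≫ fV) p
  have hgen : ∀ q, q ⤳ m → q = m := fun q hq => (hq.antisymm (hmax q hq)).eq
  have hξ : ∀ {X : Scheme.{u}} [IrreducibleSpace X] (g : pullback fV fW ⟶ X) [Flat g],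
      g m = genericPoint X := fun g _ => by
    obtain ⟨q, hq, hqξ⟩ := Flat.generalizingMap g (genericPoint_specializes (g m))
    rw [← hgen q hq]; exact hqξ
  obtain ⟨k, hk, hk', -⟩ := EquidimChart.mapTrdeg_baseChange_of_fibreMax fV
    (IsPullback.of_hasPullback fV fW) (x' := m) (fun q hq _ => hgen q hq)
  rw [hξ a] at hk'
  obtain ⟨n, hn1, hn2⟩ := DimTheory.exists_dim_eq_resTrdeg fV
  obtain rfl : n = r := by rw [hr] at hn2; exact_mod_cast hn2.symm
  obtain ⟨t, ht1, ht2⟩ := DimTheory.exists_dim_eq_resTrdeg fW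
  obtain rfl : t = s := by rw [hs] at ht2; exact_mod_cast ht2.symm
  have e0 := DimTheory.resTrdeg_comp (k := K) (𝟙 (Spec (CommRingCat.of K))) fV (genericPoint V)
  rw [show DimTheory.resTrdeg (k := K) (𝟙 (Spec (CommRingCat.of K))) (fV (genericPoint V)) = 0 from
    DimTheory.resTrdeg_id _ _, zero_add, Category.comp_id, hk', hn1] at e0
  have hkn : n = k := Nat.cast_injective (R := Cardinal.{u}) e0
  obtain ⟨d, hd, hd'⟩ := DimTheory.exists_height_eq (b ≫ fW) m
  rw [DimTheory.resTrdeg_comp, hξ b, ht1, hk, ← hkn, ← Nat.cast_add] at hd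
  rw [← hh, hd', ← Nat.cast_injective (R := Cardinal.{u}) hd, Nat.add_comm]

theorem notMem_basicOpen {Z X : Scheme.{u}} (i : Z ⟶ X) {U : X.Opens} {rs : List Γ(X, U)}
    (hker : RingHom.ker (i.app U).hom = Ideal.ofList rs) {y : X} (hy : y ∈ Set.range i) :
    ∀ r ∈ rs, y ∉ X.basicOpen r := by
  rintro r hr hc
  obtain ⟨z, rfl⟩ := hy
  have h0 : (i.app U).hom r = 0 := RingHom.mem_ker.1 (hker.ge (Ideal.subset_span hr))
  have h1 : z ∈ Z.basicOpen ((i.app U).hom r) := by
    rw [← Scheme.preimage_basicOpen]; exact hc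
  rw [h0, Scheme.basicOpen_zero] at h1
  exact h1

/-- Dimension of a component of `j⁻¹(range i)` for `i` cut out by `c` equations. -/
theorem height_add_coheight_le {P Y Z T : Scheme.{u}} [IsLocallyNoetherian P] (j : P ⟶ Y) (i : Z ⟶ Y)
    (g : T ⟶ P) {U : Y.Opens} (hU : IsAffineOpen U) [IsClosedImmersion (i ∣_ U)]
    {rs : List Γ(Y, U)} (hker : RingHom.ker (i.app U).hom = Ideal.ofList rs)
    (t : T) (hgi : Topology.IsInducing g) (ht : ∀ x : T, x ⤳ t → x = t) (hU' : j (g t) ∈ U)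
    (hrange : ∀ q : P, j q ∈ Set.range i → q ∈ Set.range g) (hti : j (g t) ∈ Set.range i) :
    Order.coheight (g t) ≤ (rs.length : ℕ∞) := by
  refine coheight_le_length j rs (g t) hU' (notMem_basicOpen i hker hti) fun q hq hv => ?_
  have hqU : j q ∈ U := (hq.map j.continuous).mem_open U.2 hU'
  obtain ⟨x, rfl⟩ := hrange q (mem_range_of_vanish i hU hker hqU hv)
  rw [ht x (hgi.specializes_iff.1 hq)]

end Groth.Agent.DiagCodim
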